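import Groth.Agent.H56.RelPC.RelTorTri
import Groth.Agent.H56.AmpNhd.Local
import Groth.Agent.Lib.BettiExact.TorRestrict

/-!
Stalkwise tor amplitude of an object of the derived category under open restriction of source and
base.
-/

set_option autoImplicit false
set_option linter.style.haveILetI false

universe u

open CategoryTheory Limits AlgebraicGeometry HomologicalComplex

attribute [local instance] HasDerivedCategory.standard

namespace Groth.Agent.H56.TorPush

open Groth.Agent.Lib Groth.Agent.Lib.DerivedOX Groth.Agent.Lib.Modules.StalkModule KFlatBaseChange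
open Groth.Agent.Lib.BettiExact TorTensor TorPull
open Groth.Agent.Lib.DR Groth.Agent.Lib.DR.Basic Groth.Agent.Lib.DR.FiniteComplex
  Groth.Agent.Lib.DR.PseudoCoherent Groth.Agent.Lib.DR.BaseChange
open Groth.Agent.Lib.Perfect.Basic Groth.Agent.Lib.Perfect.PseudoCoh
open RelPC.RelTor

section Ring

variable {A B : Type u} [CommRing A] [CommRing B]

/-- A bijective ring map reflects flat amplitude of restrictions. -/
theorem bdd_of_res_bijective (e : A →+* B) (he : Function.Bijective e) (W : DRing.Cx B) {a b : ℤ}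
    (h : Bdd (flat A) a b (DerivedCategory.Q.obj ((resC e).obj W))) :
    Bdd (flat B) a b (DerivedCategory.Q.obj W) := by
  let ε : A ≃+* B := RingEquiv.ofBijective e he
  let e' : B →+* A := ε.symm.toRingHom
  let i : (resC e').obj ((resC e).obj W) ≅ W :=
    HomologicalComplex.Hom.isoOfComponents (fun n => LinearEquiv.toModuleIso (R := B)
      (m₁ := (((resC e').obj ((resC e).obj W)).X n).isModule) (m₂ := (W.X n).isModule)
      { AddEquiv.refl (W.X n) with
        map_smul' := fun r x => by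
          change (e (e' r)) • (show W.X n from x) = r • (show W.X n from x)
          rw [show e (e' r) = r from ε.apply_symm_apply r] })
      (fun _ _ _ => rfl)
  exact Bdd.of_iso (ExactPush.bdd_map (resF e') (TorRestrict.flat_res_of_bijective e' ε.symm.bijective) h)
    (ExactPush.mapQ (resF e') _ ≪≫ DerivedCategory.Q.mapIso i)

end Ring

variable {X Y X' Y' : Scheme.{u}}

/-- Stalkwise tor amplitude of an object of the derived category. -/
def T (f : X ⟶ Y) (a b : ℤ) (K : DCoh.D X) (x : X) : Prop :=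
  Bdd (flat _) a b ((RelPC.RelTorTri.SO f x).obj K)

theorem T_iff (f : X ⟶ Y) (a b : ℤ) (x : X) {F : CochainComplex X.Modules ℤ} {K : DCoh.D X}
    (e : DCoh.toD X F ≅ K) : T f a b K x ↔ DerSch.HasTorAmplitudeAt f a b F x :=
  (RelPC.RelTorTri.torAmpAt_iff_bdd f x e a b).symm

theorem T.of_iso {f : X ⟶ Y} {a b : ℤ} {x : X} {K K' : DCoh.D X} (h : T f a b K x) (e : K ≅ K') :
    T f a b K' x :=
  Bdd.of_iso h ((RelPC.RelTorTri.SO f x).mapIso e)

theorem T.mono {f : X ⟶ Y} {a b a' b' : ℤ} {x : X} {K : DCoh.D X} (h : T f a b K x) (ha : a' ≤ a)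
    (hb : b ≤ b') : T f a' b' K x :=
  Bdd.mono h ha hb

theorem T.congr {f g : X ⟶ Y} {a b : ℤ} {x : X} {K : DCoh.D X} (h : T f a b K x) (w : f = g) :
    T g a b K x := by
  subst w
  exact h

variable (f : X ⟶ Y) (g : X' ⟶ Y') (u : X' ⟶ X) (v : Y' ⟶ Y)
  [IsOpenImmersion u] [IsOpenImmersion v]

/-- The converse of `TorRestrict.torAmpAt_restrict`. -/
theorem torAmpAt_unrestrict (w : u ≫ f = g ≫ v) (F : CochainComplex X.Modules ℤ) {a b : ℤ} (x : X')
    (hF : DerSch.HasTorAmplitudeAt g a b ((rC u).obj F) x) :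
    DerSch.HasTorAmplitudeAt f a b F (u x) := by
  let γ : Y.presheaf.stalk (f (u x)) ≅ Y.presheaf.stalk (v (g x)) :=
    Y.presheaf.stalkCongr (Inseparable.of_eq (show (u ≫ f) x = (g ≫ v) x by rw [w]))
  let ε : Y.presheaf.stalk (f (u x)) ⟶ Y'.presheaf.stalk (g x) := γ.hom ≫ v.stalkMap (g x)
  haveI : IsIso (v.stalkMap (g x)) := inferInstance
  haveI hε : IsIso ε := @IsIso.comp_isIso _ _ _ _ _ γ.hom (v.stalkMap (g x)) inferInstance ‹_›
  let e : Y'.presheaf.stalk (g x) →+* Y.presheaf.stalk (f (u x)) := (inv ε).hom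
  have h1 : f.stalkMap (u x) ≫ u.stalkMap x = ε ≫ g.stalkMap x := by
    rw [← Scheme.Hom.stalkMap_comp, Scheme.Hom.stalkMap_congr_hom _ _ w x, Scheme.Hom.stalkMap_comp]
    exact (Category.assoc _ _ _).symm
  have he : (g.stalkMap x).hom = ((u.stalkMap x).hom.comp (f.stalkMap (u x)).hom).comp e :=
    congrArg CommRingCat.Hom.hom (((IsIso.eq_inv_comp ε).2 h1.symm) :
      g.stalkMap x = inv ε ≫ f.stalkMap (u x) ≫ u.stalkMap x)
  have hbij : Function.Bijective e := ConcreteCategory.bijective_of_isIso (inv ε)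
  exact bdd_of_res_bijective e hbij _
    (Bdd.of_iso (show Bdd (flat _) a b _ from hF)
      (DerivedCategory.Q.mapIso ((NatIso.mapHomologicalComplex
        (TorRestrict.stalkOverRestrictIso f g u x e he) (ComplexShape.up ℤ)).app F)))

theorem T_res_iff (w : u ≫ f = g ≫ v) (K : DCoh.D X) (a b : ℤ) (x : X') :
    T g a b ((RD u).obj K) x ↔ T f a b K (u x) := by
  let e := DerivedCategory.Q.objObjPreimageIso K
  rw [T_iff f a b (u x) e, T_iff g a b x ((RDQ u _).symm ≪≫ (RD u).mapIso e)]
  exact ⟨torAmpAt_unrestrict f g u v w _ x, TorRestrict.torAmpAt_restrict f g u v w _ x⟩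

end Groth.Agent.H56.TorPush
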