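import Groth.Agent.H56.TorPush.Main
import Groth.Agent.H56.RelPC.RelTorAffine
import Groth.Agent.Lib.DerivedOX.RestrictRpush

/-!
Tor amplitude of `Rf_*` relative to a base.
-/

set_option autoImplicit false
set_option linter.style.haveILetI false

universe u

open CategoryTheory Limits AlgebraicGeometry Pretriangulated

attribute [local instance] HasDerivedCategory.standard

namespace Groth.Agent.H56.TorPush

open Groth.Agent.Lib Groth.Agent.Lib.DerivedOX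
open Groth.Agent.Lib.DR Groth.Agent.Lib.DR.Basic Groth.Agent.Lib.DR.FiniteComplex
  Groth.Agent.Lib.DR.PseudoCoherent Groth.Agent.Lib.DR.BaseChange
open Groth.Agent.Lib.Perfect.Basic Groth.Agent.Lib.Perfect.PseudoCoh

variable {X Y S : Scheme.{u}}

theorem exists_T_of_locFinite [CompactSpace X] (p : X ⟶ S) {F : CochainComplex X.Modules ℤ}
    {K : DCoh.D X} (e : DCoh.toD X F ≅ K) (hF : DerSch.LocFiniteTorAmplitude p F) :
    ∃ a b : ℤ, ∀ x, T p a b K x := by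
  obtain ⟨a, b, h⟩ := RelPC.RelTorAffine.exists_hasTorAmplitude p hF
  exact ⟨a, b, (hasTorAmplitude_iff p e).1 h⟩

variable (q : Y ⟶ S) (f : X ⟶ Y) [QuasiCompact f] [QuasiSeparated f] [DCoh.HasRpush f]
  {V : S.Opens} {W : Y.Opens}

/-- `Rf_*` on an affine chart. -/
theorem exists_T_chart (hV : IsAffineOpen V) (hW : IsAffineOpen W) (hWV : W ≤ q ⁻¹ᵁ V)
    (E : DCoh.D X) (hE : DCoh.IsQCohD E) {a b : ℤ} (h : ∀ x : X, f x ∈ W → T (f ≫ q) a b E x) :
    ∃ b' : ℤ, ∀ y ∈ W, T q a b' ((DCoh.Rpush f).obj E) y := by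
  let φ := q.appLE V W hWV
  let X' : X.Opens := f ⁻¹ᵁ W
  let g : (X' : Scheme.{u}) ⟶ Spec Γ(Y, W) := (f ∣_ W) ≫ hW.isoSpec.hom
  haveI : IsAffine (W : Scheme.{u}) := hW
  haveI : CompactSpace (X' : Scheme.{u}) := QuasiCompact.compactSpace_of_compactSpace (f ∣_ W)
  haveI : QuasiSeparatedSpace (X' : Scheme.{u}) :=
    quasiSeparatedSpace_of_quasiSeparated (f ∣_ W)
  haveI := Exists.hasRpush g
  haveI := Exists.hasRpush (f ∣_ W)
  haveI := Exists.hasRpush hW.isoSpec.hom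
  have hφ : Spec.map φ ≫ hV.fromSpec = hW.fromSpec ≫ q := hV.SpecMap_appLE_fromSpec q hW hWV
  have hu : X'.ι ≫ (f ≫ q) = (g ≫ Spec.map φ) ≫ hV.fromSpec := by
    rw [Category.assoc, hφ, ← hW.isoSpec_inv_ι]
    simp only [g, Category.assoc, Iso.hom_inv_id_assoc]
    rw [← Category.assoc, ← Category.assoc, morphismRestrict_ι]
  obtain ⟨b', hb'⟩ := exists_T_Rpush g φ (E := (RD X'.ι).obj E) (a := a) (b := b)
    (RpushQCoh.isQCohD_restrict hE X')
    (fun x => (T_res_iff (f ≫ q) (g ≫ Spec.map φ) X'.ι hV.fromSpec hu E a b x).2 (h _ x.2))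
  refine ⟨b', fun y hy => ?_⟩
  obtain ⟨z, rfl⟩ : ∃ z, hW.fromSpec z = y := by
    have : y ∈ Set.range hW.fromSpec := by rw [hW.range_fromSpec]; exact hy
    exact this
  refine (T_res_iff q (Spec.map φ) hW.fromSpec hV.fromSpec hφ.symm _ a b' z).1 ((hb' z).of_iso ?_)
  exact ((PullComp.rpushCompIso (f ∣_ W) hW.isoSpec.hom).app _).symm ≪≫
    (nonempty_Rpush_iso hW.isoSpec.hom _).some ≪≫
    (DCoh.restrictD (inv hW.isoSpec.hom)).mapIso
      ((RestrictRpush.restrictD_Rpush_iso f W).app E).symm ≪≫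
    (Gen43.Restrict.compIso' (inv hW.isoSpec.hom) W.ι (by rw [IsIso.Iso.inv_hom, hW.isoSpec_inv_ι])).app _

/-- `Rf_*` keeps finite tor amplitude relative to a base. -/
theorem locFinite_Rpush (p : X ⟶ S) (w : f ≫ q = p) (F : CochainComplex X.Modules ℤ)
    (hqc : DCoh.IsQCohD (DCoh.toD X F)) (hF : DerSch.LocFiniteTorAmplitude p F) :
    DerSch.LocFiniteTorAmplitudeD q ((DCoh.Rpush f).obj (DCoh.toD X F)) := by
  subst w
  rintro G ⟨e⟩ y
  obtain ⟨V, hV, hyV, -⟩ := exists_isAffineOpen_mem_and_subset (X := S) (x := q y) (U := ⊤) trivial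
  obtain ⟨W, hW, hyW, hWV⟩ := exists_isAffineOpen_mem_and_subset (X := Y) (x := y) (U := q ⁻¹ᵁ V) hyV
  have hc : IsCompact (f ⁻¹' (W : Set Y)) := QuasiCompact.isCompact_preimage _ W.2 hW.isCompact
  choose U a b hxU hU using hF
  obtain ⟨t, ht⟩ := hc.elim_finite_subcover (fun x : X => (U x : Set X)) (fun x => (U x).2)
    (fun x _ => Set.mem_iUnion.2 ⟨x, hxU x⟩)
  obtain ⟨A, hA⟩ := (t.finite_toSet.image a).bddBelow
  obtain ⟨B, hB⟩ := (t.finite_toSet.image b).bddAbove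
  have h : ∀ x : X, f x ∈ W → T (f ≫ q) A B (DCoh.toD X F) x := fun x hx => by
    obtain ⟨i, hit, hxi⟩ := Set.mem_iUnion₂.1 (ht hx)
    exact ((T_iff _ _ _ x (Iso.refl _)).2 (hU i x hxi)).mono (hA ⟨i, hit, rfl⟩) (hB ⟨i, hit, rfl⟩)
  obtain ⟨b', hb'⟩ := exists_T_chart q f hV hW hWV (DCoh.toD X F) hqc h
  exact ⟨W, A, b', hyW, fun y' hy' => (T_iff q A b' y' e).1 (hb' y' hy')⟩

end Groth.Agent.H56.TorPush
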