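import Groth.Agent.H56.TorPush.Global
import Groth.Agent.H56.SmoothAmp.Push
import Groth.Agent.Lib.H75.TorFactor.Ring

/-!
Tor amplitude over the base of an object of finite tor dimension.
-/

set_option autoImplicit false
set_option linter.style.haveILetI false

universe u

open CategoryTheory Limits AlgebraicGeometry HomologicalComplex MonoidalCategory

attribute [local instance] HasDerivedCategory.standard

namespace Groth.Agent.H56.TorPush

open Groth.Agent.Lib Groth.Agent.Lib.DerivedOX Groth.Agent.Lib.Modules.StalkModule KFlatBaseChange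
open Groth.Agent.Lib.BettiExact TorTensor TorPull
open Groth.Agent.Lib.DR Groth.Agent.Lib.DR.Basic Groth.Agent.Lib.DR.FiniteComplex
  Groth.Agent.Lib.DR.PseudoCoherent Groth.Agent.Lib.DR.BaseChange
open Groth.Agent.Lib.Perfect.Basic Groth.Agent.Lib.Perfect.PseudoCoh
open Groth.Agent.H54.PCRestrict (sgl res)

theorem isKFlat_unit (B : Type u) [CommRing B] : DRing.IsKFlat B (𝟙_ (DRing.Cx B)) := by
  refine DR.KFlat.isKFlat_of_flat _ 0
    (fun i hi => isZero_single_obj_X (ComplexShape.up ℤ) 0 (𝟙_ (ModuleCat.{u} B)) i (by omega)) fun i => ?_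
  by_cases hi : i = 0
  · subst hi
    exact good_flat.iso (singleObjXSelf (ComplexShape.up ℤ) 0 (𝟙_ (ModuleCat.{u} B))).symm
      (show Module.Flat B B from inferInstance)
  · exact good_flat.zero (isZero_single_obj_X (ComplexShape.up ℤ) 0 (𝟙_ (ModuleCat.{u} B)) i hi)

theorem bdd_res_of_alg {A B : Type u} [CommRing A] [CommRing B] (φ : A →+* B) (W : DRing.Cx B) {a b c d : ℤ}
    (hW : Bdd (flat B) a b (DerivedCategory.Q.obj W))
    (hB : Bdd (flat A) c d ((sgl A 0).obj ((res φ).obj (ModuleCat.of B B)))) :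
    Bdd (flat A) (c + a) (d + b) (DerivedCategory.Q.obj ((resC φ).obj W)) := by
  have hP : Bdd (flat A) c d (DerivedCategory.Q.obj ((resC φ).obj (𝟙_ (DRing.Cx B)))) :=
    Bdd.of_iso hB (((DerivedCategory.singleFunctorIsoCompQ _ 0).app _) ≪≫
      DerivedCategory.Q.mapIso ((singleMapHomologicalComplex (resF φ) (ComplexShape.up ℤ) 0).app
        (𝟙_ (ModuleCat.{u} B))).symm)
  exact (bdd_res_tensor_of_bdd φ (isKFlat_unit B) hW hP).of_iso
    (DerivedCategory.Q.mapIso ((resC φ).mapIso (ρ_ W)))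

variable {X Y : Scheme.{u}}

/-- A morphism of finite tor dimension turns finite tor dimension into finite tor amplitude over the base. -/
theorem locFinite_of_torDim (f : X ⟶ Y) (hf : DerSch.LocFiniteTorDim f) {F : CochainComplex X.Modules ℤ}
    (hF : DCoh.LocHasFiniteTorDim (DCoh.toD X F)) : DerSch.LocFiniteTorAmplitude f F := by
  intro x
  obtain ⟨U, c, d, hxU, hU⟩ := hf x
  obtain ⟨V, a, b, hxV, hV⟩ := hF x
  refine ⟨U ⊓ V, c + a, d + b, ⟨hxU, hxV⟩, fun x' hx' => ?_⟩
  have hW : DerSch.HasTorAmplitudeAt (𝟙 X) a b F x' :=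
    torAmpAt_unrestrict (𝟙 X) (𝟙 (V : Scheme.{u})) V.ι V.ι (by simp) F (⟨x', hx'.2⟩ : V)
      (TorAmpStalk.torAmp_of_flatAmp (hV F ⟨Iso.refl _⟩) _)
  refine (torAmpAt_iff f x' F _ _).2 (bdd_res_of_alg (f.stalkMap x').hom _ ?_
    ((Groth.Agent.Lib.H75.TorFactor.Ring.hasTorAmplitudeAt_unitCx_iff f x' c d).1 (hU x' hx'.1)))
  exact bdd_of_res_bijective ((𝟙 X : X ⟶ X).stalkMap x').hom
    (by rw [Scheme.Hom.stalkMap_id]; exact Function.bijective_id) _ ((torAmpAt_iff _ _ F a b).1 hW)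

end Groth.Agent.H56.TorPush
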