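import Groth.Agent.H56.TorPush.Base
import Groth.Agent.H56.TorTilde.Tilde
import Groth.Agent.Lib.DerivedOX.AffinePushTilde
import Groth.Agent.Lib.DerivedOX.RpushQCoh
import Groth.Agent.Lib.DerivedOX.PullComp
import Groth.Agent.Lib.Gen43.Restrict
import Groth.Agent.S0997

/-!
Tor amplitude of direct images along morphisms of affine schemes.
-/

set_option autoImplicit false
set_option linter.style.haveILetI false

universe u

open CategoryTheory Limits AlgebraicGeometry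

attribute [local instance] HasDerivedCategory.standard

namespace Groth.Agent.H56.TorPush

open Groth.Agent.Lib Groth.Agent.Lib.DerivedOX
open Groth.Agent.Lib.DR Groth.Agent.Lib.DR.Basic Groth.Agent.Lib.DR.FiniteComplex
  Groth.Agent.Lib.DR.PseudoCoherent Groth.Agent.Lib.DR.BaseChange
open Groth.Agent.Lib.Perfect.Basic Groth.Agent.Lib.Perfect.PseudoCoh

theorem hasTorAmplitude_iff {X Y : Scheme.{u}} (f : X ⟶ Y) {a b : ℤ} {F : CochainComplex X.Modules ℤ}
    {K : DCoh.D X} (e : DCoh.toD X F ≅ K) :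
    DerSch.HasTorAmplitude f a b F ↔ ∀ x, T f a b K x :=
  forall_congr' fun x => (T_iff f a b x e).symm

variable {R B A : CommRingCat.{u}}

/-- Relative tor amplitude of `M~`, in the derived category. -/
theorem T_tilde_iff (φ : R ⟶ A) [PreservesFiniteLimits (tilde.functor A)] (M : Dual.D A) {K : DCoh.D (Spec A)}
    (e : K ≅ (DCoh.tildeD A).obj M) (a b : ℤ) :
    (∀ z, T (Spec.map φ) a b K z) ↔ Bdd (flat R) a b ((DRing.restrictD φ.hom).obj M) := by
  let eK := DerivedCategory.Q.objObjPreimageIso K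
  rw [← hasTorAmplitude_iff (Spec.map φ) eK]
  exact TorTilde.hasTorAmplitude_tilde_iff φ.hom M _ ⟨eK ≪≫ e⟩ a b

/-- Tor amplitude over the base is kept by the direct image of an affine scheme. -/
theorem T_push_affine (ψ : B ⟶ A) (φ : R ⟶ B) [DCoh.HasRpush (Spec.map ψ)] {E : DCoh.D (Spec A)}
    (hE : DCoh.IsQCohD E) {a b : ℤ} (h : ∀ z, T (Spec.map ψ ≫ Spec.map φ) a b E z) (y : Spec B) :
    T (Spec.map φ) a b ((DCoh.Rpush (Spec.map ψ)).obj E) y := by
  haveI : PreservesFiniteLimits (tilde.functor A) := QCoh.Tilde.tildeFunctor_preservesFiniteLimits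
  haveI : PreservesFiniteLimits (tilde.functor B) := QCoh.Tilde.tildeFunctor_preservesFiniteLimits
  obtain ⟨M, ⟨eM⟩⟩ := ((Groth.Agent.S0997.result A).2.2 E).1 hE
  have h' := (T_tilde_iff (φ ≫ ψ) M eM.symm a b).1 fun z => (h z).congr (Spec.map_comp φ ψ).symm
  obtain ⟨i⟩ := H54.PCRestrict.restrictD_comp φ.hom ψ.hom M
  exact (T_tilde_iff φ ((DRing.restrictD ψ.hom).obj M)
    ((DCoh.Rpush (Spec.map ψ)).mapIso eM.symm ≪≫ (AffinePush.tildeD_Rpush_iso ψ).app M) a b).2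
    (Bdd.of_iso h' i) y

variable {U X : Scheme.{u}}

/-- Direct image along an isomorphism is restriction along its inverse. -/
theorem nonempty_Rpush_iso (e : U ⟶ X) [IsIso e] [DCoh.HasRpush e] (L : DCoh.D U) :
    Nonempty ((DCoh.Rpush e).obj L ≅ (DCoh.restrictD (inv e)).obj L) :=
  ⟨(DCoh.restrictD e).preimageIso ((OpenImm.counitIso e).app L ≪≫
    ((Gen43.Restrict.compIso' e (inv e) (IsIso.hom_inv_id e) ≪≫ Gen43.Restrict.idIso U).app L).symm)⟩

theorem T_push_aux {A : CommRingCat.{u}} (e : X ⟶ Spec A) [IsIso e] (ψ : B ⟶ A) (φ : R ⟶ B)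
    [DCoh.HasRpush (e ≫ Spec.map ψ)] {E : DCoh.D X} (hE : DCoh.IsQCohD E) {a b : ℤ}
    (h : ∀ x, T ((e ≫ Spec.map ψ) ≫ Spec.map φ) a b E x) (y : Spec B) :
    T (Spec.map φ) a b ((DCoh.Rpush (e ≫ Spec.map ψ)).obj E) y := by
  haveI := Exists.hasRpush e
  haveI := Exists.hasRpush (Spec.map ψ)
  obtain ⟨i⟩ := nonempty_Rpush_iso e E
  have hq : DCoh.IsQCohD ((DCoh.Rpush e).obj E) := RpushQCoh.isQCohD_Rpush e E hE
  refine (T_push_affine ψ φ hq (fun z => ?_) y).of_iso ((PullComp.rpushCompIso e (Spec.map ψ)).app E)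
  refine T.of_iso ?_ i.symm
  exact (T_res_iff ((e ≫ Spec.map ψ) ≫ Spec.map φ) (Spec.map ψ ≫ Spec.map φ) (inv e) (𝟙 _)
    (by simp) E a b z).2 (h _)

/-- Direct image of an affine scheme to an affine scheme. -/
theorem T_push_of_isAffine [IsAffine X] (g : X ⟶ Spec B) [hg : DCoh.HasRpush g] (φ : R ⟶ B) {E : DCoh.D X}
    (hE : DCoh.IsQCohD E) {a b : ℤ} (h : ∀ x, T (g ≫ Spec.map φ) a b E x) (y : Spec B) :
    T (Spec.map φ) a b ((DCoh.Rpush g).obj E) y := by
  obtain ⟨ψ, hψ⟩ : ∃ ψ, Spec.map ψ = inv X.isoSpec.hom ≫ g := ⟨_, Spec.map_preimage _⟩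
  obtain rfl : X.isoSpec.hom ≫ Spec.map ψ = g := by rw [hψ, IsIso.hom_inv_id_assoc]
  exact T_push_aux _ ψ φ hE h y

end Groth.Agent.H56.TorPush
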