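import Groth.Agent.H56.TorPush.Affine
import Groth.Agent.Lib.DerivedOX.MVTriangle
import Groth.Agent.Lib.DerivedOX.RpushTriangulated
import Groth.Agent.Lib.DR.TorAmp
import Groth.Agent.Lib.ZarCoh.Induction

/-!
Finite tor amplitude of derived direct images of quasi-compact quasi-separated schemes.
-/

set_option autoImplicit false
set_option linter.style.haveILetI false

universe u

open CategoryTheory Limits AlgebraicGeometry Pretriangulated

attribute [local instance] HasDerivedCategory.standard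

namespace Groth.Agent.H56.TorPush

open Groth.Agent.Lib Groth.Agent.Lib.DerivedOX
open Groth.Agent.Lib.DR Groth.Agent.Lib.DR.Basic Groth.Agent.Lib.DR.FiniteComplex
  Groth.Agent.Lib.DR.PseudoCoherent Groth.Agent.Lib.DR.BaseChange
open Groth.Agent.Lib.Perfect.Basic Groth.Agent.Lib.Perfect.PseudoCoh

variable {X Y : Scheme.{u}}

/-- Direct images along equal morphisms. -/
noncomputable def rpushCongr {f f' : X ⟶ Y} [DCoh.HasRpush f] [DCoh.HasRpush f'] (h : f = f') (K : DCoh.D X) :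
    (DCoh.Rpush f).obj K ≅ (DCoh.Rpush f').obj K :=
  eqToIso (by subst h; rfl)

theorem isQCohD_RD {Z : Scheme.{u}} (k : Z ⟶ X) [IsOpenImmersion k] {K : DCoh.D X} (hK : DCoh.IsQCohD K) :
    DCoh.IsQCohD ((RD k).obj K) := fun n => by
  haveI : (DCoh.HD K n).IsQuasicoherent := hK n
  exact (WayOut.Scheme.qc _).prop_of_iso (Perfect.Coherent.homologyIso k K n).symm
    (inferInstanceAs (((Scheme.Modules.restrictFunctor k).obj (DCoh.HD K n)).IsQuasicoherent))

theorem T_biprod (f : X ⟶ Y) {a b : ℤ} {x : X} {K L : DCoh.D X} (hK : T f a b K x) (hL : T f a b L x) :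
    T f a b (K ⊞ L) x :=
  TorAmp.bdd_flat_ext _ ((RelPC.RelTorTri.SO f x).map_distinguished _ (binaryBiproductTriangle_distinguished K L))
    hK hL

/-- The fibre of a map. -/
theorem T_fibre (f : X ⟶ Y) {a b b' : ℤ} {x : X} {Tr : Triangle (DCoh.D X)} (hT : Tr ∈ distTriang _)
    (h₂ : T f a b Tr.obj₂ x) (h₃ : T f a b' Tr.obj₃ x) : T f a (max b (b' + 1)) Tr.obj₁ x := by
  have e1 : a - 1 + 1 = a := by omega
  have e2 : max b (b' + 1) - 1 + 1 = max b (b' + 1) := by omega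
  have h := TorAmp.bdd_flat_fiber (a := a - 1) (b := max b (b' + 1) - 1) _
    ((RelPC.RelTorTri.SO f x).map_distinguished _ hT)
    (show Bdd _ _ _ _ from Bdd.mono h₂ (by omega) (by omega))
    (show Bdd _ _ _ _ from Bdd.mono h₃ (by omega) (by omega))
  rw [e1, e2] at h
  exact h

variable {R B : CommRingCat.{u}}

section

variable (g : X ⟶ Spec B) (φ : R ⟶ B) (a : ℤ) (E : DCoh.D X)

/-- The conclusion on an open subscheme. -/
def Good {Z : Scheme.{u}} (k : Z ⟶ X) [IsOpenImmersion k] : Prop :=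
  haveI := Exists.hasRpush (k ≫ g)
  ∃ b' : ℤ, ∀ y, T (Spec.map φ) a b' ((DCoh.Rpush (k ≫ g)).obj ((RD k).obj E)) y

/-- The conclusion on all open subschemes with given image. -/
def Q (U : X.Opens) : Prop :=
  ∀ (Z : Scheme.{u}) (k : Z ⟶ X) [IsOpenImmersion k], k.opensRange = U → Good g φ a E k

theorem good_push {Z : Scheme.{u}} (k : Z ⟶ X) [IsOpenImmersion k] (W : Z.Opens)
    (h : Q g φ a E (k ''ᵁ W)) [DCoh.HasRpush (k ≫ g)] [DCoh.HasRpush W.ι] :
    ∃ b' : ℤ, ∀ y, T (Spec.map φ) a b' ((DCoh.Rpush (k ≫ g)).obj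
      ((DCoh.Rpush W.ι).obj ((DCoh.restrictD W.ι).obj ((RD k).obj E)))) y := by
  obtain ⟨b', hb'⟩ := h _ (W.ι ≫ k)
    (by rw [Scheme.Hom.opensRange_comp, Scheme.Opens.opensRange_ι])
  haveI := Exists.hasRpush ((W.ι ≫ k) ≫ g)
  haveI := Exists.hasRpush (W.ι ≫ k ≫ g)
  refine ⟨b', fun y => (hb' y).of_iso ?_⟩
  exact (DCoh.Rpush _).mapIso ((Gen43.Restrict.compIso W.ι k).app E) ≪≫
    rpushCongr (Category.assoc _ _ _) _ ≪≫
    ((PullComp.rpushCompIso W.ι (k ≫ g)).app _).symm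

theorem induction [CompactSpace X] [QuasiSeparatedSpace X] {b : ℤ} (hE : DCoh.IsQCohD E)
    (h : ∀ x, T (g ≫ Spec.map φ) a b E x) : Q g φ a E ⊤ := by
  refine ZarCoh.Induction.induction (⊤ : X.Opens) isQuasiSeparated_univ
    (Q g φ a E) ?_ ?_ ⊤ le_rfl (by simpa using isCompact_univ)
  · intro U _ hU Z k _ hk
    haveI : IsAffine (k.opensRange : Scheme.{u}) := hk ▸ hU
    haveI : IsAffine Z := IsAffine.of_isIso k.isoOpensRange.hom
    haveI := Exists.hasRpush (k ≫ g)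
    refine ⟨b, T_push_of_isAffine (k ≫ g) φ (isQCohD_RD k hE) fun z => ?_⟩
    exact (T_res_iff (g ≫ Spec.map φ) ((k ≫ g) ≫ Spec.map φ) k (𝟙 _) (by simp) E a b z).2 (h _)
  · intro U V _ _ _ _ hU hV hUV Z k _ hk
    haveI := Exists.hasRpush (k ≫ g)
    let U' := k ⁻¹ᵁ U
    let V' := k ⁻¹ᵁ V
    haveI := Exists.hasRpush U'.ι
    haveI := Exists.hasRpush V'.ι
    haveI := Exists.hasRpush (U' ⊓ V').ι
    have htop : U' ⊔ V' = ⊤ := top_le_iff.1 fun z _ => by
      have hz : k z ∈ U ⊔ V := hk ▸ ⟨z, rfl⟩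
      exact hz
    have himg : ∀ W : X.Opens, W ≤ U ⊔ V → k ''ᵁ (k ⁻¹ᵁ W) = W := fun W hW => by
      rw [Scheme.Hom.image_preimage_eq_opensRange_inf, hk]
      exact inf_eq_right.2 hW
    obtain ⟨b₁, h₁⟩ := good_push g φ a E k U' (by rw [himg U le_sup_left]; exact hU)
    obtain ⟨b₂, h₂⟩ := good_push g φ a E k V' (by rw [himg V le_sup_right]; exact hV)
    obtain ⟨b₃, h₃⟩ := good_push g φ a E k (U' ⊓ V')
      (by rw [show U' ⊓ V' = k ⁻¹ᵁ (U ⊓ V) from rfl, himg _ (inf_le_left.trans le_sup_left)]; exact hUV)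
    obtain ⟨a', b', c', hT⟩ := MVTriangle.exists_mv_triangle U' V' htop ((RD k).obj E)
    haveI : (DCoh.Rpush (k ≫ g)).Additive := inferInstance
    haveI := preservesBinaryBiproducts_of_preservesBiproducts (DCoh.Rpush (k ≫ g))
    exact ⟨max (max b₁ b₂) (b₃ + 1), fun y => T_fibre (Spec.map φ)
      ((DCoh.Rpush (k ≫ g)).map_distinguished _ hT)
      (T.of_iso (T_biprod _ ((h₁ y).mono le_rfl (le_max_left b₁ b₂))
        ((h₂ y).mono le_rfl (le_max_right b₁ b₂))) (Functor.mapBiprod _ _ _).symm) (h₃ y)⟩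

end

/-- Finite tor amplitude over an affine base is kept by direct image to an affine scheme. -/
theorem exists_T_Rpush [CompactSpace X] [QuasiSeparatedSpace X] (g : X ⟶ Spec B) [DCoh.HasRpush g]
    (φ : R ⟶ B) {E : DCoh.D X} (hE : DCoh.IsQCohD E) {a b : ℤ}
    (h : ∀ x, T (g ≫ Spec.map φ) a b E x) :
    ∃ b' : ℤ, ∀ y, T (Spec.map φ) a b' ((DCoh.Rpush g).obj E) y := by
  haveI := Exists.hasRpush (𝟙 X ≫ g)
  obtain ⟨b', hb'⟩ := induction g φ a E hE h X (𝟙 X) (TopologicalSpace.Opens.ext Set.range_id)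
  exact ⟨b', fun y => (hb' y).of_iso ((DCoh.Rpush (𝟙 X ≫ g)).mapIso ((Gen43.Restrict.idIso X).app E) ≪≫
    rpushCongr (Category.id_comp g) E)⟩

end Groth.Agent.H56.TorPush
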